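import Groth.Agent.Lib.Compl.Complete
import Groth.Prelude.Def_Formal2

/-!
# Algebra: the torsion sequence of a module along a principal ideal
-/

set_option autoImplicit false

universe u

noncomputable section

namespace Groth.Agent.FormalCohH7

variable {A : Type u} [CommRing A] (f : A) (M : Type u) [AddCommGroup M] [Module A M] (c : ℕ)

/-- The elements killed by `f ^ c`. -/
abbrev tors : Submodule A M := LinearMap.ker (f ^ c • (LinearMap.id : M →ₗ[A] M))

/-- `M` modulo its `f ^ c`-torsion. -/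
abbrev modTors : Type u := M ⧸ tors f M c

/-- `f ^ c` bounds the `f`-power torsion. -/
def IsTorsBound : Prop := ∀ (n : ℕ) (x : M), f ^ n • x = 0 → f ^ c • x = 0

theorem exists_isTorsBound [IsNoetherianRing A] [Module.Finite A M] : ∃ c, IsTorsBound f M c := by
  let g : ℕ →o Submodule A M :=
    ⟨fun n => tors f M n, monotone_nat_of_le_succ fun n x hx => by
      simp only [tors, LinearMap.mem_ker, LinearMap.smul_apply, LinearMap.id_apply] at hx ⊢
      rw [pow_succ', mul_smul, hx, smul_zero]⟩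
  obtain ⟨c, hc⟩ := monotone_stabilizes_iff_noetherian.2 inferInstance g
  refine ⟨c, fun n x hx => ?_⟩
  have h : x ∈ g (max c n) := g.monotone (le_max_right c n) (LinearMap.mem_ker.2 hx)
  rw [← hc (max c n) (le_max_left c n)] at h
  exact h

/-- Multiplication by `f ^ (c + k + 1)` from `M` modulo torsion to `M`. -/
def jMap (k : ℕ) : modTors f M c →ₗ[A] M :=
  (tors f M c).liftQ (f ^ (c + k + 1) • LinearMap.id) (fun x hx => by
    simp only [tors, LinearMap.mem_ker, LinearMap.smul_apply, LinearMap.id_apply] at hx ⊢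
    rw [show c + k + 1 = (k + 1) + c by omega, pow_add, mul_smul, hx, smul_zero])

theorem jMap_mk (k : ℕ) (x : M) : jMap f M c k (Submodule.Quotient.mk x) = f ^ (c + k + 1) • x := rfl

variable {f M c}

theorem jMap_injective (hc : IsTorsBound f M c) (k : ℕ) : Function.Injective (jMap f M c k) := by
  rw [injective_iff_map_eq_zero]
  intro z
  obtain ⟨x, rfl⟩ := Submodule.Quotient.mk_surjective _ z
  intro hx
  rw [jMap_mk] at hx
  exact (Submodule.Quotient.mk_eq_zero _).2 (LinearMap.mem_ker.2 (hc _ x hx))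

variable (f M c)

/-- The projection modulo `f ^ (n + 1)`. -/
abbrev prj (n : ℕ) : M →ₗ[A] Formal2.quotPow A (Ideal.span {f}) M n :=
  Formal2.quotPowπ A (Ideal.span {f}) M n

theorem prj_eq_zero_iff (n : ℕ) (x : M) : prj f M n x = 0 ↔ ∃ y : M, f ^ (n + 1) • y = x := by
  rw [show prj f M n x = Submodule.Quotient.mk x from rfl, Submodule.Quotient.mk_eq_zero,
    Ideal.span_singleton_pow, Submodule.ideal_span_singleton_smul,
    Submodule.mem_smul_pointwise_iff_exists]
  exact exists_congr fun y => and_iff_right Submodule.mem_top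

theorem exact_jMap_prj (k : ℕ) : Function.Exact (jMap f M c k) (prj f M (c + k)) := by
  intro x
  rw [prj_eq_zero_iff]
  constructor
  · rintro ⟨y, rfl⟩
    exact ⟨Submodule.Quotient.mk y, jMap_mk f M c k y⟩
  · rintro ⟨z, rfl⟩
    obtain ⟨y, rfl⟩ := Submodule.Quotient.mk_surjective _ z
    exact ⟨y, (jMap_mk f M c k y).symm⟩

theorem jMap_add (k N : ℕ) :
    jMap f M c (k + N) = jMap f M c k ∘ₗ (f ^ N • LinearMap.id) := by
  refine Submodule.linearMap_qext _ (LinearMap.ext fun x => ?_)
  show jMap f M c (k + N) (Submodule.Quotient.mk x) = jMap f M c k (f ^ N • Submodule.Quotient.mk x)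
  rw [jMap_mk, map_smul, jMap_mk, smul_smul, ← pow_add]
  congr 2
  omega

theorem prj_trans (n : ℕ) :
    Formal2.quotPowTrans A (Ideal.span {f}) M n ∘ₗ prj f M (n + 1) = prj f M n :=
  LinearMap.ext fun _ => rfl

theorem exists_limit [IsNoetherianRing A] [IsAdicComplete (Ideal.span {f}) A] [Module.Finite A M] (m : ℕ → M) :
    ∃ L : M, ∀ k, ∃ r : M, f ^ k • r = L - ∑ l ∈ Finset.range k, f ^ l • m l := by
  have := Compl.isAdicComplete_of_finite (Ideal.span {f}) M
  have hmem : ∀ (k : ℕ) (x : M), x ∈ (Ideal.span {f} ^ k • ⊤ : Submodule A M) ↔ ∃ r : M, f ^ k • r = x := by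
    intro k x
    rw [Ideal.span_singleton_pow, Submodule.ideal_span_singleton_smul, Submodule.mem_smul_pointwise_iff_exists]
    exact exists_congr fun y => and_iff_right Submodule.mem_top
  let s : ℕ → M := fun k => ∑ l ∈ Finset.range k, f ^ l • m l
  obtain ⟨L, hL⟩ := IsPrecomplete.prec' (I := Ideal.span {f}) s (fun {a b} hab => by
    rw [SModEq.sub_mem]
    refine neg_sub (s b) (s a) ▸ Submodule.neg_mem _ ?_
    rw [hmem]
    refine ⟨∑ l ∈ Finset.Ico a b, f ^ (l - a) • m l, ?_⟩
    rw [Finset.smul_sum]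
    show _ = (∑ l ∈ Finset.range b, f ^ l • m l) - (∑ l ∈ Finset.range a, f ^ l • m l)
    rw [← Finset.sum_Ico_eq_sub _ hab]
    refine Finset.sum_congr rfl fun l hl => ?_
    rw [smul_smul, ← pow_add]
    congr 2
    have := (Finset.mem_Ico.1 hl).1
    omega)
  refine ⟨L, fun k => ?_⟩
  obtain ⟨r, hr⟩ := (hmem k _).1 (SModEq.sub_mem.1 (hL k))
  exact ⟨-r, by rw [smul_neg, hr, neg_sub]⟩

theorem mem_of_forall_sub [IsNoetherianRing A] [IsAdicComplete (Ideal.span {f}) A] [Module.Finite A M]
    (K : Submodule A M) (x : M) (h : ∀ k : ℕ, ∃ r : M, x - f ^ k • r ∈ K) : x ∈ K := by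
  have := Compl.isAdicComplete_of_finite (Ideal.span {f}) (M ⧸ K)
  refine (Submodule.Quotient.mk_eq_zero K).1 (IsHausdorff.haus (I := Ideal.span {f}) inferInstance _ fun k => ?_)
  obtain ⟨r, hr⟩ := h k
  rw [SModEq.sub_mem, sub_zero, (Submodule.Quotient.eq K).2 hr, Submodule.Quotient.mk_smul,
    Ideal.span_singleton_pow]
  exact Submodule.smul_mem_smul (Ideal.mem_span_singleton_self _) Submodule.mem_top

end Groth.Agent.FormalCohH7
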