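import Mathlib.RingTheory.Support
import Mathlib.RingTheory.Filtration
import Mathlib.RingTheory.Nakayama
import Mathlib.RingTheory.Localization.Finiteness
import Mathlib.RingTheory.Localization.AtPrime.Basic

/-!
# Nakayama and Krull at a prime, without localisations in the statements
-/

set_option autoImplicit false

universe u

namespace Groth.Agent.FormalCohH7

open IsLocalRing

variable {A : Type u} [CommRing A] {p : Ideal A} [p.IsPrime] {f : A}
  {M : Type u} [AddCommGroup M] [Module A M]

private theorem exists_mk_smul (hf : f ∈ p) {k : ℕ} (x : M) (s : p.primeCompl) {r : A} (hr : r ∉ p) {y : M}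
    (h : r • x = f ^ k • y) :
    (LocalizedModule.mk x s) ∈
      ((maximalIdeal (Localization.AtPrime p)) ^ k • ⊤ :
        Submodule (Localization.AtPrime p) (LocalizedModule p.primeCompl M)) := by
  have h1 : LocalizedModule.mk x s = LocalizedModule.mk (f ^ k • y) ((⟨r, hr⟩ : p.primeCompl) * s) := by
    rw [← h]
    exact (LocalizedModule.mk_cancel_common_left (⟨r, hr⟩ : p.primeCompl) s x).symm
  rw [h1, show LocalizedModule.mk (f ^ k • y) ((⟨r, hr⟩ : p.primeCompl) * s) =
    algebraMap A (Localization.AtPrime p) f ^ k • LocalizedModule.mk y ((⟨r, hr⟩ : p.primeCompl) * s) by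
      rw [← map_pow, algebraMap_smul, LocalizedModule.smul'_mk]]
  refine Submodule.smul_mem_smul (Ideal.pow_mem_pow ?_ k) Submodule.mem_top
  rw [IsLocalization.AtPrime.to_map_mem_maximal_iff _ p]
  exact hf

/-- An element divisible by all powers of `f` at `p` vanishes at `p`. -/
theorem exists_smul_eq_zero_of_divisible [IsNoetherianRing A] [Module.Finite A M] (hf : f ∈ p) (x : M)
    (h : ∀ n : ℕ, ∃ r ∉ p, ∃ y : M, r • x = f ^ (n + 1) • y) : ∃ r ∉ p, r • x = 0 := by
  haveI : Module.Finite (Localization.AtPrime p) (LocalizedModule p.primeCompl M) :=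
    Module.Finite.of_isLocalizedModule p.primeCompl (LocalizedModule.mkLinearMap p.primeCompl M)
  have hmem : LocalizedModule.mk x (1 : p.primeCompl) ∈
      (⨅ i : ℕ, (maximalIdeal (Localization.AtPrime p)) ^ i • ⊤ :
        Submodule (Localization.AtPrime p) (LocalizedModule p.primeCompl M)) := by
    rw [Submodule.mem_iInf]
    intro i
    obtain _ | n := i
    · simp
    · obtain ⟨r, hr, y, hy⟩ := h n
      exact exists_mk_smul hf x 1 hr hy
  rw [Ideal.iInf_pow_smul_eq_bot_of_isLocalRing _ (maximalIdeal.isMaximal _).ne_top, Submodule.mem_bot,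
    ← LocalizedModule.zero_mk (1 : p.primeCompl), LocalizedModule.mk_eq] at hmem
  obtain ⟨u, hu⟩ := hmem
  exact ⟨u, u.2, by simpa [Submonoid.smul_def] using hu⟩

theorem not_annihilator_le_of_torsion [Module.Finite A M] (h : ∀ x : M, ∃ r ∉ p, r • x = 0) :
    ¬ Module.annihilator A M ≤ p := fun hle => by
  have := (Module.mem_support_iff_of_finite (p := ⟨p, ‹_›⟩)).2 hle
  rw [Module.mem_support_iff'] at this
  obtain ⟨m, hm⟩ := this
  obtain ⟨r, hr, h0⟩ := h m
  exact hm r hr h0

/-- Nakayama at `p`. -/
theorem not_annihilator_le_of_divisible [Module.Finite A M] (hf : f ∈ p)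
    (h : ∀ x : M, ∃ r ∉ p, ∃ y : M, r • x = f • y) : ¬ Module.annihilator A M ≤ p := by
  haveI : Module.Finite (Localization.AtPrime p) (LocalizedModule p.primeCompl M) :=
    Module.Finite.of_isLocalizedModule p.primeCompl (LocalizedModule.mkLinearMap p.primeCompl M)
  have hbot : (⊤ : Submodule (Localization.AtPrime p) (LocalizedModule p.primeCompl M)) = ⊥ := by
    refine Submodule.eq_bot_of_le_smul_of_le_jacobson_bot (maximalIdeal (Localization.AtPrime p)) _
      Module.Finite.fg_top ?_ (maximalIdeal_le_jacobson _)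
    intro z _
    induction z using LocalizedModule.induction_on with
    | h x s =>
      obtain ⟨r, hr, y, hy⟩ := h x
      have := exists_mk_smul hf (k := 1) x s hr (y := y) (by rw [pow_one]; exact hy)
      rwa [pow_one] at this
  refine not_annihilator_le_of_torsion fun x => ?_
  have h0 : LocalizedModule.mk x (1 : p.primeCompl) ∈ (⊥ : Submodule (Localization.AtPrime p) _) :=
    hbot ▸ Submodule.mem_top
  rw [Submodule.mem_bot, ← LocalizedModule.zero_mk (1 : p.primeCompl), LocalizedModule.mk_eq] at h0
  obtain ⟨u, hu⟩ := h0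
  exact ⟨u, u.2, by simpa [Submonoid.smul_def] using hu⟩

end Groth.Agent.FormalCohH7
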