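import Groth.Agent.Lib.FormalCohH7.Opens
import Groth.Agent.Lib.FormalCohH7.Torsion
import Groth.Agent.Lib.FormalCohH7.Nakayama
import Groth.Agent.Lib.ProperFormalH7.Nak

/-!
# Formal sections on the punctured spectrum against sections near `V(f)`
-/

set_option autoImplicit false
set_option backward.isDefEq.respectTransparency false

universe u

open CategoryTheory Limits AlgebraicGeometry TopologicalSpace Opposite

noncomputable section

namespace Groth.Agent.FormalCohH7

open Groth.Agent.M1 Groth.Agent.CohFound Groth.Agent.LocCohSheafLib Groth.Agent.LocCohLib Groth.Agent.InjHullLib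

variable {A : Type u} [CommRing A] (a : Ideal A) (f : A) (M : Type u) [AddCommGroup M] [Module A M]

/-- The transition map. -/
abbrev tr (n : ℕ) : Formal2.quotPow A (Ideal.span {f}) M (n + 1) →ₗ[A] Formal2.quotPow A (Ideal.span {f}) M n :=
  Formal2.quotPowTrans A (Ideal.span {f}) M n

/-- Compatible families of sections of the quotients. -/
def formalSec : Submodule A (∀ n, Sec (Formal2.quotPow A (Ideal.span {f}) M n) (LocCoh.puncturedOpen A a)) where
  carrier := {s | ∀ n, secMap (tr f M n) _ (s (n + 1)) = s n}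
  zero_mem' n := map_zero _
  add_mem' {s t} hs ht n := by
    show secMap (tr f M n) _ (s (n + 1) + t (n + 1)) = s n + t n
    rw [map_add, hs n, ht n]
  smul_mem' r s hs n := by
    show secMap (tr f M n) _ (r • s (n + 1)) = r • s n
    rw [map_smul, hs n]

/-- From `M` to the formal sections. -/
def toFormal : M →ₗ[A] formalSec a f M where
  toFun m := ⟨fun n => toS (R := A) _ _ (prj f M n m), fun n => by
    rw [secMap_toS]; rfl⟩
  map_add' m m' := Subtype.ext (funext fun n => by
    show toS (R := A) _ _ (prj f M n (m + m')) = toS (R := A) _ _ (prj f M n m) + toS (R := A) _ _ (prj f M n m')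
    rw [map_add, map_add])
  map_smul' r m := Subtype.ext (funext fun n => by
    show toS (R := A) _ _ (prj f M n (r • m)) = r • toS (R := A) _ _ (prj f M n m)
    rw [map_smul, map_smul])

theorem toFormal_val (m : M) (n : ℕ) : (toFormal a f M m).1 n = toS (R := A) _ _ (prj f M n m) := rfl

variable {f M}

/-- Multiplication by `f`, one level up. -/
def mu (n : ℕ) : Formal2.quotPow A (Ideal.span {f}) M n →ₗ[A] Formal2.quotPow A (Ideal.span {f}) M (n + 1) :=
  Submodule.mapQ _ _ (f • LinearMap.id) (fun x hx => by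
    rw [Submodule.mem_comap]
    rw [Ideal.span_singleton_pow, Submodule.ideal_span_singleton_smul, Submodule.mem_smul_pointwise_iff_exists] at hx ⊢
    obtain ⟨y, -, rfl⟩ := hx
    exact ⟨y, Submodule.mem_top, by
      show f ^ (n + 1 + 1) • y = f • f ^ (n + 1) • y
      rw [pow_succ' f (n + 1), mul_smul]⟩)

/-- Down to level zero. -/
def down (n : ℕ) : Formal2.quotPow A (Ideal.span {f}) M n →ₗ[A] Formal2.quotPow A (Ideal.span {f}) M 0 :=
  Submodule.mapQ _ _ LinearMap.id (fun x hx => by
    rw [Submodule.comap_id]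
    exact Submodule.smul_mono_left (Ideal.pow_le_pow_right (by omega)) hx)

theorem down_succ (n : ℕ) : down (f := f) (M := M) (n + 1) = down n ∘ₗ tr f M n := by
  ext x
  simp only [mu, down, tr, Formal2.quotPowTrans, LinearMap.coe_comp, Function.comp_apply, Submodule.mkQ_apply,
    map_smul, Submodule.mapQ_apply, LinearMap.id_apply, LinearMap.smul_apply, Submodule.Quotient.mk_smul]

theorem down_zero : down (f := f) (M := M) 0 = LinearMap.id := by
  ext x
  simp only [mu, down, tr, Formal2.quotPowTrans, LinearMap.coe_comp, Function.comp_apply, Submodule.mkQ_apply,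
    map_smul, Submodule.mapQ_apply, LinearMap.id_apply, LinearMap.smul_apply, Submodule.Quotient.mk_smul]

theorem mu_tr (n : ℕ) : mu (f := f) (M := M) n ∘ₗ tr f M n = tr f M (n + 1) ∘ₗ mu (n + 1) := by
  ext x
  simp only [mu, down, tr, Formal2.quotPowTrans, LinearMap.coe_comp, Function.comp_apply, Submodule.mkQ_apply,
    map_smul, Submodule.mapQ_apply, LinearMap.id_apply, LinearMap.smul_apply, Submodule.Quotient.mk_smul]

theorem tr_mu (n : ℕ) : tr f M n ∘ₗ mu (f := f) (M := M) n = f • LinearMap.id := by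
  ext x
  simp only [mu, down, tr, Formal2.quotPowTrans, LinearMap.coe_comp, Function.comp_apply, Submodule.mkQ_apply,
    map_smul, Submodule.mapQ_apply, LinearMap.id_apply, LinearMap.smul_apply, Submodule.Quotient.mk_smul]

theorem mu_injective (hreg : IsSMulRegular M f) (n : ℕ) : Function.Injective (mu (f := f) (M := M) n) := by
  rw [injective_iff_map_eq_zero]
  intro z
  obtain ⟨x, rfl⟩ := Submodule.Quotient.mk_surjective _ z
  intro hx
  change prj f M (n + 1) (f • x) = 0 at hx
  obtain ⟨y, hy⟩ := (prj_eq_zero_iff f M _ _).1 hx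
  refine (prj_eq_zero_iff f M n x).2 ⟨y, hreg ?_⟩
  show f • f ^ (n + 1) • y = f • x
  rw [smul_smul, ← pow_succ', hy]

theorem exact_mu_down (n : ℕ) : Function.Exact (mu (f := f) (M := M) n) (down (n + 1)) := by
  intro z
  obtain ⟨x, rfl⟩ := Submodule.Quotient.mk_surjective _ z
  constructor
  · intro hx
    obtain ⟨y, hy⟩ := (prj_eq_zero_iff f M 0 x).1 hx
    exact ⟨prj f M n y, congrArg (prj f M (n + 1)) (show f • y = x by rw [← hy, zero_add, pow_one])⟩
  · rintro ⟨w, hw⟩
    obtain ⟨y, rfl⟩ := Submodule.Quotient.mk_surjective _ w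
    rw [← hw]
    exact (prj_eq_zero_iff f M 0 (f • y)).2 ⟨y, by rw [zero_add, pow_one]⟩

theorem down_surjective (n : ℕ) : Function.Surjective (down (f := f) (M := M) n) := fun z => by
  obtain ⟨x, rfl⟩ := Submodule.Quotient.mk_surjective _ z
  exact ⟨Submodule.Quotient.mk x, rfl⟩

variable [IsNoetherianRing A] {a}

theorem smul_sec_zero (W : (Spec (CommRingCat.of A)).Opens) (s : Sec (Formal2.quotPow A (Ideal.span {f}) M 0) W) :
    f • s = 0 := by
  have h : (f • LinearMap.id :
      Formal2.quotPow A (Ideal.span {f}) M 0 →ₗ[A] Formal2.quotPow A (Ideal.span {f}) M 0) = 0 := by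
    refine Submodule.linearMap_qext _ (LinearMap.ext fun x => ?_)
    show f • prj f M 0 x = 0
    rw [← map_smul]
    exact (prj_eq_zero_iff f M 0 _).2 ⟨x, by rw [zero_add, pow_one]⟩
  rw [← secMap_smul_id, h, secMap_zero]

theorem pow_smul_sec (n : ℕ) (W : (Spec (CommRingCat.of A)).Opens) (s : Sec (Formal2.quotPow A (Ideal.span {f}) M n) W) :
    f ^ (n + 1) • s = 0 := by
  have h : (f ^ (n + 1) • LinearMap.id :
      Formal2.quotPow A (Ideal.span {f}) M n →ₗ[A] Formal2.quotPow A (Ideal.span {f}) M n) = 0 := by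
    refine Submodule.linearMap_qext _ (LinearMap.ext fun x => ?_)
    show f ^ (n + 1) • prj f M n x = 0
    rw [← map_smul]
    exact (prj_eq_zero_iff f M n _).2 ⟨x, rfl⟩
  rw [← secMap_smul_id, h, secMap_zero]


/-- A family vanishing at level zero is a multiple of `f`. -/
theorem exists_eq_smul (hreg : IsSMulRegular M f) (s : formalSec a f M) (h : s.1 0 = 0) :
    ∃ t : formalSec a f M, f • t = s := by
  have h0 : ∀ n, secMap (down (f := f) (M := M) n) (LocCoh.puncturedOpen A a) (s.1 n) = 0 := by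
    intro n
    induction n with
    | zero =>
      rw [h, map_zero]
    | succ n ih =>
      rw [down_succ, secMap_comp, s.2 n, ih]
  choose t ht using fun n => exists_secMap_eq (mu_injective hreg n) (down_surjective (n + 1)) (exact_mu_down n) _
    (s.1 (n + 1)) (h0 (n + 1))
  refine ⟨⟨t, fun n => secMap_injective (mu_injective hreg n) _ ?_⟩, Subtype.ext (funext fun n => ?_)⟩
  · rw [← secMap_comp, mu_tr, secMap_comp, ht (n + 1), ht n]
    exact s.2 (n + 1)
  · show f • t n = s.1 n
    rw [← s.2 n, ← ht n, ← secMap_comp, tr_mu, secMap_smul_id]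

theorem finite_formalSec [IsAdicComplete (Ideal.span {f}) A] [Module.Finite A M] (hreg : IsSMulRegular M f)
    (hfin : Module.Finite A (LocCoh.H a 1 (M ⧸ (Ideal.span {f} • (⊤ : Submodule A M))))) :
    Module.Finite A (formalSec a f M) := by
  have hH : Module.Finite A (LocCoh.H a 1 (Formal2.quotPow A (Ideal.span {f}) M 0)) :=
    haveI := hfin
    Module.Finite.equiv (hcongr a 1 (Submodule.quotEquivOfEq _ _ (by rw [zero_add, pow_one])).symm)
  obtain ⟨e⟩ := nonempty_coker_toS_equiv a (Formal2.quotPow A (Ideal.span {f}) M 0)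
  haveI := hH
  haveI : Module.Finite A (Sec (Formal2.quotPow A (Ideal.span {f}) M 0) (LocCoh.puncturedOpen A a) ⧸
      LinearMap.range (toS (Formal2.quotPow A (Ideal.span {f}) M 0) (LocCoh.puncturedOpen A a))) :=
    Module.Finite.equiv e.symm
  haveI : Module.Finite A (Sec (Formal2.quotPow A (Ideal.span {f}) M 0) (LocCoh.puncturedOpen A a)) :=
    Module.Finite.of_submodule_quotient
      (LinearMap.range (toS (Formal2.quotPow A (Ideal.span {f}) M 0) (LocCoh.puncturedOpen A a)))
  let ev : formalSec a f M →ₗ[A] Sec (Formal2.quotPow A (Ideal.span {f}) M 0) (LocCoh.puncturedOpen A a) :=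
    (LinearMap.proj 0).comp (formalSec a f M).subtype
  have hle : LinearMap.range (f • LinearMap.id : formalSec a f M →ₗ[A] formalSec a f M) ≤ LinearMap.ker ev := by
    rintro _ ⟨t, rfl⟩
    show f • t.1 0 = 0
    exact smul_sec_zero _ (t.1 0)
  haveI : Module.Finite A (formalSec a f M ⧸ LinearMap.range (f • LinearMap.id : formalSec a f M →ₗ[A] formalSec a f M)) := by
    refine Module.Finite.of_injective ((LinearMap.range _).liftQ ev hle) ((injective_iff_map_eq_zero _).2 fun z => ?_)
    obtain ⟨s, rfl⟩ := Submodule.Quotient.mk_surjective _ z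
    intro hs
    exact (Submodule.Quotient.mk_eq_zero _).2 (exists_eq_smul hreg s hs)
  refine ProperFormalH7.finite_of_quotient (g := f) (Ideal.span {f}) (Ideal.mem_span_singleton_self f) ?_
  intro x y hxy
  have hz : ∀ i, x i - y i = f • (x (i + 1) - y (i + 1)) := fun i => by
    have := congrFun hxy i
    simp only [ProperFormalH7.phiSeq] at this
    rw [smul_sub]
    linear_combination (norm := module) this
  have hk : ∀ k i, x i - y i = f ^ k • (x (i + k) - y (i + k)) := by
    intro k
    induction k with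
    | zero => intro i; simp
    | succ k ih => intro i; rw [ih i, hz (i + k), smul_smul, ← pow_succ, add_assoc]
  funext i
  refine sub_eq_zero.1 (Subtype.ext (funext fun n => ?_))
  rw [hk (n + 1) i]
  exact pow_smul_sec n _ _

/-- The opens on which `M` agrees with the formal sections. -/
theorem exists_admissible_ideal [Module.Finite A M] (hfinS : Module.Finite A (formalSec a f M))
    (hreg : IsSMulRegular M f) :
    ∃ b : Ideal A, b ≤ a ∧ (∀ p : Ideal A, p.IsPrime → ¬ a ≤ p → f ∈ p → ¬ b ≤ p) ∧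
      Function.Bijective (gmap (toFormal a f M) 0 (LocCoh.puncturedOpen A b)) := by
  let K := Module.annihilator A (LinearMap.ker (toFormal a f M))
  let C := Module.annihilator A (formalSec a f M ⧸ LinearMap.range (toFormal a f M))
  refine ⟨a * (K * C), Ideal.mul_le_left, fun p hp hap hfp hb => ?_, bijective_gmap_of_killed _ _
    (fun r hr x => Module.mem_annihilator.1 (Ideal.mul_le_left (Ideal.mul_le_right hr) : r ∈ K) x)
    (fun r hr x => Module.mem_annihilator.1 (Ideal.mul_le_right (Ideal.mul_le_right hr) : r ∈ C) x)⟩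
  rcases hp.mul_le.1 hb with h | h
  · exact hap h
  rcases hp.mul_le.1 h with h | h
  · refine not_annihilator_le_of_torsion (fun x => ?_) h
    have hk : ∀ n, toS (R := A) _ (LocCoh.puncturedOpen A a) (prj f M n x.1) = 0 := fun n =>
      congrFun (congrArg Subtype.val x.2) n
    obtain ⟨r, hr, h0⟩ := exists_smul_eq_zero_of_divisible hfp x.1 fun n => by
      obtain ⟨r, hr, h1⟩ := exists_smul_eq_zero_of_toS a hap (hk n)
      rw [← map_smul] at h1
      obtain ⟨y, hy⟩ := (prj_eq_zero_iff f M n _).1 h1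
      exact ⟨r, hr, y, hy.symm⟩
    exact ⟨r, hr, Subtype.ext h0⟩
  · refine not_annihilator_le_of_divisible hfp (fun x => ?_) h
    obtain ⟨s, rfl⟩ := Submodule.Quotient.mk_surjective _ x
    obtain ⟨r, hr, z, hz⟩ := exists_smul_eq_toS a hap (s.1 0)
    obtain ⟨m, rfl⟩ := Submodule.Quotient.mk_surjective _ z
    obtain ⟨t, ht⟩ := exists_eq_smul hreg (r • s - toFormal a f M m) (by
      show r • s.1 0 - toS (R := A) _ _ (prj f M 0 m) = 0
      rw [hz]; exact sub_self _)
    refine ⟨r, hr, Submodule.Quotient.mk t, ?_⟩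
    rw [← Submodule.Quotient.mk_smul, ← Submodule.Quotient.mk_smul, Submodule.Quotient.eq, ht]
    exact ⟨m, by abel⟩

theorem g0_rs (N : Type u) [AddCommGroup N] [Module A N] {V W : (Spec (CommRingCat.of A)).Opens} (h : V ≤ W)
    (x : G (A := A) N 0 W) : g0 N V (rs _ 0 h x) = rho N h (g0 N W x) :=
  hc0_rs (shA (A := A) N) h x

/-- A formal section is an honest section near `V(f)`. -/
theorem exists_section [IsAdicComplete (Ideal.span {f}) A] [Module.Finite A M] (hreg : IsSMulRegular M f)
    (hfin : Module.Finite A (LocCoh.H a 1 (M ⧸ (Ideal.span {f} • (⊤ : Submodule A M)))))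
    (s : formalSec a f M) :
    ∃ (b : Ideal A) (hb : b ≤ a) (_ : ∀ p : Ideal A, p.IsPrime → ¬ a ≤ p → f ∈ p → ¬ b ≤ p)
      (x : G (A := A) M 0 (LocCoh.puncturedOpen A b)),
      ∀ n, rho _ (punctured_mono hb) (s.1 n) = g0 _ _ (gmap (prj f M n) 0 _ x) := by
  obtain ⟨b, hb, hadm, hbij⟩ := exists_admissible_ideal (finite_formalSec hreg hfin) hreg
  obtain ⟨x, hx⟩ := hbij.2 ((g0 _ _).symm (toS (R := A) _ _ s))
  have hx' : secMap (toFormal a f M) (LocCoh.puncturedOpen A b) (g0 M _ x) = toS (R := A) _ _ s := by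
    rw [← g0_gmap, hx, AddEquiv.apply_symm_apply]
  refine ⟨b, hb, hadm, x, fun n => ?_⟩
  rw [g0_gmap, ← sub_eq_zero]
  obtain ⟨k, hk⟩ := exists_pow_smul_eq_toS b (g0 M (LocCoh.puncturedOpen A b) x)
  refine eq_zero_of_pow_smul b _ k fun r hr => ?_
  obtain ⟨m, hm⟩ := hk r hr
  have hmem : toS (R := A) _ (LocCoh.puncturedOpen A b) (toFormal a f M m - r • s) = 0 := by
    rw [map_sub, map_smul, ← secMap_toS, hm, map_smul, hx', sub_self]
  obtain ⟨l, hl⟩ := mem_powTors_iff.1 ((toS_eq_zero_iff b _).1 hmem)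
  refine eq_zero_of_pow_smul b _ l fun r' hr' => ?_
  have h1 : r' • (toS (R := A) _ _ (prj f M n m) - r • s.1 n) = 0 := congrFun (congrArg Subtype.val (hl r' hr')) n
  have h2 := congrArg (rho _ (punctured_mono hb)) h1
  rw [map_zero, map_smul, map_sub, map_smul, rho_toS, ← secMap_toS, hm, map_smul, ← smul_sub] at h2
  rw [← neg_sub, smul_neg, smul_neg, h2, neg_zero]

/-- A section near `V(f)` vanishing formally vanishes nearer. -/
theorem exists_smaller [Module.Finite A M] {b : Ideal A} (x : G (A := A) M 0 (LocCoh.puncturedOpen A b))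
    (hx : ∀ n, gmap (prj f M n) 0 _ x = 0) :
    ∃ (b' : Ideal A) (h : b' ≤ b), (∀ p : Ideal A, p.IsPrime → ¬ b ≤ p → f ∈ p → ¬ b' ≤ p) ∧
      rs _ 0 (punctured_mono h) x = 0 := by
  let J : Ideal A := LinearMap.ker (LinearMap.toSpanSingleton A _ (g0 M (LocCoh.puncturedOpen A b) x))
  refine ⟨b * J, Ideal.mul_le_left, fun p hp hbp hfp h => ?_, ?_⟩
  · rcases hp.mul_le.1 h with h | h
    · exact hbp h
    obtain ⟨r, hr, m, hm⟩ := exists_smul_eq_toS b hbp (g0 M _ x)
    have h0 : ∀ n, toS (R := A) _ (LocCoh.puncturedOpen A b) (prj f M n m) = 0 := fun n => by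
      rw [← secMap_toS, ← hm, map_smul, ← g0_gmap, hx n, map_zero, smul_zero]
    obtain ⟨r', hr', hm'⟩ := exists_smul_eq_zero_of_divisible hfp m fun n => by
      obtain ⟨r₁, hr₁, h1⟩ := exists_smul_eq_zero_of_toS b hbp (h0 n)
      rw [← map_smul] at h1
      obtain ⟨y, hy⟩ := (prj_eq_zero_iff f M n _).1 h1
      exact ⟨r₁, hr₁, y, hy.symm⟩
    refine hp.mul_notMem hr' hr (h (LinearMap.mem_ker.2 ?_))
    rw [LinearMap.toSpanSingleton_apply, mul_smul, hm, ← map_smul, hm', map_zero]
  · apply (g0 M _).injective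
    rw [g0_rs, map_zero]
    refine eq_zero_of_pow_smul (b * J) _ 1 fun r hr => ?_
    rw [pow_one] at hr
    rw [← map_smul]
    have : r • g0 M _ x = 0 := LinearMap.mem_ker.1 (Ideal.mul_le_right hr : r ∈ J)
    rw [this, map_zero]

/-- The comparison map from sections near `V(f)` is bijective. -/
theorem formalCohColimBijective_zero [IsAdicComplete (Ideal.span {f}) A] [Module.Finite A M]
    (hreg : IsSMulRegular M f)
    (hfin : Module.Finite A (LocCoh.H a 1 (M ⧸ (Ideal.span {f} • (⊤ : Submodule A M))))) :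
    Formal2.FormalCohColimBijective A (Ideal.span {f}) M 0 (LocCoh.puncturedOpen A a) := by
  have hfz : ∀ p : Spec (CommRingCat.of A), p ∈ PrimeSpectrum.zeroLocus (R := A) (Ideal.span {f}) → f ∈ p.asIdeal :=
    fun p hp => (PrimeSpectrum.mem_zeroLocus _ _).1 hp (Ideal.mem_span_singleton_self f)
  refine ⟨fun V hV x hx => ?_, fun y hy => ?_⟩
  · obtain ⟨b, rfl⟩ := exists_eq_punctured V
    obtain ⟨b', hb', hadm, h0⟩ := exists_smaller (hvG M 0 _ x) fun n => by
      rw [← hvG_natural, hx n, map_zero]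
    refine ⟨LocCoh.puncturedOpen A b', ⟨⟨(punctured_mono hb').trans hV.1, fun p hpU hpz => ?_⟩, punctured_mono hb'⟩, ?_⟩
    · exact (mem_punctured_iff b' p).2
        (hadm p.asIdeal p.isPrime ((mem_punctured_iff b p).1 (hV.2 p hpU hpz)) (hfz p hpz))
    · apply (hvG M 0 _).injective
      rw [map_zero]
      exact (huExt_res _ 0 _ x).trans h0
  · let s : formalSec a f M := ⟨fun n => g0 _ _ (hvG _ 0 _ (y n)), fun n => by
      rw [← g0_gmap, ← hvG_natural, hy n]⟩
    obtain ⟨b, hb, hadm, x, hx⟩ := exists_section hreg hfin s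
    refine ⟨LocCoh.puncturedOpen A b, ⟨punctured_mono hb, fun p hpU hpz => ?_⟩, (hvG M 0 _).symm x, fun n => ?_⟩
    · exact (mem_punctured_iff b p).2 (hadm p.asIdeal p.isPrime ((mem_punctured_iff a p).1 hpU) (hfz p hpz))
    · apply (hvG _ 0 _).injective
      rw [hvG_natural, AddEquiv.apply_symm_apply]
      refine (huExt_res _ 0 _ (y n)).trans ((g0 _ _).injective ?_)
      exact (g0_rs _ _ _).trans (hx n)

end Groth.Agent.FormalCohH7
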