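import Groth.Agent.Lib.FormalCohH7.Seq
import Mathlib.RingTheory.Filtration

/-!
# Formal sections near `V(I)` and short exact sequences
-/

set_option autoImplicit false
set_option backward.isDefEq.respectTransparency false

universe u

open CategoryTheory Limits AlgebraicGeometry TopologicalSpace Opposite

noncomputable section

namespace Groth.Agent.FormalCohH7

open Groth.Agent.M1 Groth.Agent.CohFound Groth.Agent.LocCohSheafLib

variable {A : Type u} [CommRing A] (I : Ideal A) {M' M M'' : Type u} [AddCommGroup M'] [Module A M']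
  [AddCommGroup M] [Module A M] [AddCommGroup M''] [Module A M'']

/-- A map on the quotients by powers. -/
def qLin (φ : M' →ₗ[A] M) (n : ℕ) : Formal2.quotPow A I M' n →ₗ[A] Formal2.quotPow A I M n :=
  Submodule.mapQ _ _ φ (by
    rw [← Submodule.map_le_iff_le_comap, Submodule.map_smul'']
    exact Submodule.smul_mono le_rfl le_top)

theorem qLin_π (φ : M' →ₗ[A] M) (n : ℕ) :
    qLin I φ n ∘ₗ Formal2.quotPowπ A I M' n = Formal2.quotPowπ A I M n ∘ₗ φ := rfl

theorem qLin_trans (φ : M' →ₗ[A] M) (n : ℕ) :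
    qLin I φ n ∘ₗ Formal2.quotPowTrans A I M' n = Formal2.quotPowTrans A I M n ∘ₗ qLin I φ (n + 1) := by
  ext x
  simp only [qLin, Formal2.quotPowTrans, LinearMap.coe_comp, Function.comp_apply, Submodule.mkQ_apply,
    Submodule.mapQ_apply, LinearMap.id_apply]

theorem qLin_comp_eq_zero {f : M' →ₗ[A] M} {g : M →ₗ[A] M''} (h : ∀ x, g (f x) = 0) (n : ℕ) :
    qLin I g n ∘ₗ qLin I f n = 0 := by
  ext x
  simp only [qLin, LinearMap.coe_comp, Function.comp_apply, Submodule.mkQ_apply, Submodule.mapQ_apply, h,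
    Submodule.Quotient.mk_zero, LinearMap.zero_apply]

variable (M') in
/-- Several transition maps at once. -/
def qDown (n k : ℕ) : Formal2.quotPow A I M' (n + k) →ₗ[A] Formal2.quotPow A I M' n :=
  Submodule.mapQ _ _ LinearMap.id (fun x hx => by
    rw [Submodule.comap_id]
    exact Submodule.smul_mono_left (Ideal.pow_le_pow_right (by omega)) hx)

variable {i : ℕ} {V : (Spec (CommRingCat.of A)).Opens}

theorem gmap_qDown (w : ∀ n, G (A := A) (Formal2.quotPow A I M' n) i V)
    (hw : ∀ n, gmap (Formal2.quotPowTrans A I M' n) i V (w (n + 1)) = w n) (n : ℕ) :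
    ∀ k, gmap (qDown I M' n k) i V (w (n + k)) = w n := by
  intro k
  induction k with
  | zero =>
    rw [show qDown I M' n 0 = LinearMap.id by
      ext x
      simp only [qDown, LinearMap.coe_comp, Function.comp_apply, Submodule.mkQ_apply, Submodule.mapQ_apply,
        LinearMap.id_apply]]
    exact gmap_id _ _ _
  | succ k ih =>
    rw [show qDown I M' n (k + 1) = qDown I M' n k ∘ₗ Formal2.quotPowTrans A I M' (n + k) by
      ext x
      simp only [qDown, Formal2.quotPowTrans, LinearMap.coe_comp, Function.comp_apply, Submodule.mkQ_apply,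
        Submodule.mapQ_apply, LinearMap.id_apply]
      rfl, gmap_comp]
    exact (congrArg _ (hw (n + k))).trans ih

theorem gmap_inj {f : M' →ₗ[A] M} (hf : Function.Injective f) (V : (Spec (CommRingCat.of A)).Opens) :
    Function.Injective (gmap f 0 V) :=
  mp_f_injective (shSC_shortExact hf (Submodule.mkQ_surjective _) f.exact_map_mkQ_range) V

/-- A compatible family killed by an injection vanishes. -/
theorem family_eq_zero [IsNoetherianRing A] [Module.Finite A M] {f : M' →ₗ[A] M} (hf : Function.Injective f)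
    (w : ∀ n, G (A := A) (Formal2.quotPow A I M' n) 0 V)
    (hw : ∀ n, gmap (Formal2.quotPowTrans A I M' n) 0 V (w (n + 1)) = w n)
    (h : ∀ n, gmap (qLin I f n) 0 V (w n) = 0) (n : ℕ) : w n = 0 := by
  obtain ⟨c, hc⟩ := Ideal.exists_pow_inf_eq_pow_smul I (LinearMap.range f)
  let N : Submodule A M' := Submodule.comap f (I ^ (n + c + 1) • ⊤)
  have hN : N ≤ (I ^ (n + 1) • ⊤ : Submodule A M') := fun x hx => by
    have h1 : f x ∈ (I ^ (n + c + 1) • ⊤ ⊓ LinearMap.range f : Submodule A M) := ⟨hx, x, rfl⟩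
    rw [hc (n + c + 1) (by omega), show n + c + 1 - c = n + 1 by omega] at h1
    have h2 : f x ∈ (I ^ (n + 1) • ⊤ : Submodule A M').map f := by
      rw [Submodule.map_smul'', Submodule.map_top]
      exact Submodule.smul_mono le_rfl inf_le_right h1
    obtain ⟨y, hy, hxy⟩ := h2
    exact hf hxy ▸ hy
  have hle : (I ^ (n + c + 1) • ⊤ : Submodule A M') ≤ N := by
    rw [← Submodule.map_le_iff_le_comap, Submodule.map_smul'']
    exact Submodule.smul_mono le_rfl le_top
  let α : Formal2.quotPow A I M' (n + c) →ₗ[A] M' ⧸ N := Submodule.mapQ _ _ LinearMap.id hle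
  let β : M' ⧸ N →ₗ[A] Formal2.quotPow A I M' n := Submodule.mapQ _ _ LinearMap.id hN
  let γ : M' ⧸ N →ₗ[A] Formal2.quotPow A I M (n + c) := N.liftQ ((I ^ (n + c + 1) • ⊤ : Submodule A M).mkQ ∘ₗ f)
    (fun x hx => (Submodule.Quotient.mk_eq_zero _).2 hx)
  have hγ : Function.Injective γ := by
    rw [injective_iff_map_eq_zero]
    intro z
    obtain ⟨x, rfl⟩ := Submodule.Quotient.mk_surjective _ z
    intro hx
    exact (Submodule.Quotient.mk_eq_zero _).2 ((Submodule.Quotient.mk_eq_zero _).1 hx : f x ∈ _)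
  have h1 : qDown I M' n c = β ∘ₗ α := by
    ext x
    simp only [qDown, α, β, LinearMap.coe_comp, Function.comp_apply, Submodule.mkQ_apply, Submodule.mapQ_apply,
      LinearMap.id_apply]
  have h2 : qLin I f (n + c) = γ ∘ₗ α := by
    ext x
    simp only [qLin, α, γ, LinearMap.coe_comp, Function.comp_apply, Submodule.mkQ_apply, Submodule.mapQ_apply,
      LinearMap.id_apply, Submodule.liftQ_apply]
  have h3 : gmap α 0 V (w (n + c)) = 0 := gmap_inj hγ V (by
    rw [map_zero, ← gmap_comp, ← h2]; exact h (n + c))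
  rw [← gmap_qDown I w hw n c, h1, gmap_comp, h3, map_zero]

/-- Injectivity of the comparison from sections near `V(I)`. -/
def GColimInj (M : Type u) [AddCommGroup M] [Module A M] (U : (Spec (CommRingCat.of A)).Opens) : Prop :=
  ∀ (V : (Spec (CommRingCat.of A)).Opens) (_ : Formal2.Admissible A I U V) (x : G (A := A) M 0 V),
    (∀ n, gmap (Formal2.quotPowπ A I M n) 0 V x = 0) →
      ∃ (V' : (Spec (CommRingCat.of A)).Opens) (h : Formal2.Admissible A I U V' ∧ V' ≤ V), rs _ 0 h.2 x = 0

/-- Surjectivity of the comparison from sections near `V(I)`. -/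
def GColimSurj (M : Type u) [AddCommGroup M] [Module A M] (U : (Spec (CommRingCat.of A)).Opens) : Prop :=
  ∀ y : ∀ n, G (A := A) (Formal2.quotPow A I M n) 0 U,
    (∀ n, gmap (Formal2.quotPowTrans A I M n) 0 U (y (n + 1)) = y n) →
      ∃ (V : (Spec (CommRingCat.of A)).Opens) (hV : Formal2.Admissible A I U V) (x : G (A := A) M 0 V),
        ∀ n, rs _ 0 hV.1 (y n) = gmap (Formal2.quotPowπ A I M n) 0 V x

theorem formalCohColimBijective_iff (M : Type u) [AddCommGroup M] [Module A M]
    (U : (Spec (CommRingCat.of A)).Opens) :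
    Formal2.FormalCohColimBijective A I M 0 U ↔ GColimInj I M U ∧ GColimSurj I M U := by
  constructor
  · rintro ⟨h1, h2⟩
    refine ⟨fun V hV x hx => ?_, fun y hy => ?_⟩
    · obtain ⟨V', h, h0⟩ := h1 V hV ((hvG M 0 V).symm x) fun n => (hvG _ 0 V).injective (by
        rw [hvG_natural, AddEquiv.apply_symm_apply, map_zero, hx n])
      refine ⟨V', h, ?_⟩
      have := (huExt_res (shA (A := A) M) 0 h.2 ((hvG M 0 V).symm x)).symm.trans ((congrArg (hvG M 0 V') h0).trans (map_zero _))
      rwa [show huExt (shA (A := A) M) 0 V ((hvG M 0 V).symm x) = x from (hvG M 0 V).apply_symm_apply x] at this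
    · obtain ⟨V, hV, x, hx⟩ := h2 (fun n => (hvG _ 0 U).symm (y n)) fun n => (hvG _ 0 U).injective (by
        rw [hvG_natural, AddEquiv.apply_symm_apply, AddEquiv.apply_symm_apply, hy n])
      refine ⟨V, hV, hvG M 0 V x, fun n => ?_⟩
      rw [← hvG_natural, ← hx n]
      refine Eq.trans ?_ (huExt_res _ 0 hV.1 _).symm
      exact congrArg _ ((hvG _ 0 U).apply_symm_apply (y n)).symm
  · rintro ⟨h1, h2⟩
    refine ⟨fun V hV x hx => ?_, fun y hy => ?_⟩
    · obtain ⟨V', h, h0⟩ := h1 V hV (hvG M 0 V x) fun n => by rw [← hvG_natural, hx n, map_zero]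
      refine ⟨V', h, (hvG M 0 V').injective ?_⟩
      rw [map_zero]
      exact (huExt_res _ 0 _ x).trans h0
    · obtain ⟨V, hV, x, hx⟩ := h2 (fun n => hvG _ 0 U (y n)) fun n => by rw [← hvG_natural, hy n]
      refine ⟨V, hV, (hvG M 0 V).symm x, fun n => (hvG _ 0 V).injective ?_⟩
      rw [hvG_natural, AddEquiv.apply_symm_apply]
      exact (huExt_res _ 0 _ (y n)).trans (hx n)

/-- The left term of a short exact sequence. -/
theorem colim_of_middle_right [IsNoetherianRing A] [Module.Finite A M] {f : M' →ₗ[A] M} {g : M →ₗ[A] M''}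
    (hf : Function.Injective f) (hg : Function.Surjective g) (hfg : Function.Exact f g)
    (U : (Spec (CommRingCat.of A)).Opens) (h1 : GColimInj I M U) (h2 : GColimSurj I M U)
    (h3 : GColimInj I M'' U) : GColimInj I M' U ∧ GColimSurj I M' U := by
  refine ⟨fun V hV x hx => ?_, fun y hy => ?_⟩
  · obtain ⟨V', h, h0⟩ := h1 V hV (gmap f 0 V x) fun n => by
      rw [← gmap_comp, ← qLin_π, gmap_comp, hx n, map_zero]
    exact ⟨V', h, gmap_inj hf V' (by rw [map_zero, ← h0]; exact mp_rs _ 0 h.2 x)⟩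
  · obtain ⟨V, hV, x, hx⟩ := h2 (fun n => gmap (qLin I f n) 0 U (y n)) fun n => by
      rw [← gmap_comp, ← qLin_trans, gmap_comp, hy n]
    obtain ⟨V', h, h0⟩ := h3 V hV (gmap g 0 V x) fun n => by
      rw [← gmap_comp, ← qLin_π, gmap_comp, ← hx n]
      have e : gmap (qLin I g n) 0 U (gmap (qLin I f n) 0 U (y n)) = 0 := by
        rw [← gmap_comp, qLin_comp_eq_zero I hfg.apply_apply_eq_zero, gmap_zero]
      exact (mp_rs _ 0 hV.1 _).trans ((congrArg _ e).trans (map_zero _))
    obtain ⟨z, hz⟩ := exists_of_gmap_g 0 V' hf hg hfg (rs _ 0 h.2 x) ((mp_rs _ 0 h.2 x).trans h0)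
    refine ⟨V', h.1, z, fun n => sub_eq_zero.1
      (family_eq_zero I (V := V') hf (fun m => (rs (shA (A := A) (Formal2.quotPow A I M' m)) 0 h.1.1 (y m) : G (A := A) (Formal2.quotPow A I M' m) 0 V') - gmap (Formal2.quotPowπ A I M' m) 0 V' z)
        (fun m => ?_) (fun m => ?_) n)⟩
    · rw [map_sub, ← gmap_comp]
      exact congrArg₂ (· - ·) ((mp_rs _ 0 h.1.1 _).trans (congrArg _ (hy m))) rfl
    · rw [map_sub, ← gmap_comp, qLin_π, gmap_comp, hz]
      refine sub_eq_zero.2 ?_
      refine (mp_rs _ 0 h.1.1 (y m)).trans ?_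
      refine Eq.trans ?_ (mp_rs _ 0 h.2 x).symm
      exact (rs_rs _ 0 hV.1 h.2 _).symm.trans (congrArg (rs _ 0 h.2) (hx m))

end Groth.Agent.FormalCohH7
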