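import Groth.Agent.Lib.FormalCohH7.Seq
import Groth.Agent.Lib.LocCoh.PunctCoh27

/-!
# A scalar killing local cohomology kills the cohomology of `M~` on the punctured spectrum
-/

set_option autoImplicit false
set_option backward.isDefEq.respectTransparency false

universe u

open CategoryTheory Limits AlgebraicGeometry TopologicalSpace Opposite

noncomputable section

namespace Groth.Agent.FormalCohH7

open Groth.Agent.M1 Groth.Agent.CohFound Groth.Agent.LocCohSheafLib Groth.Agent.LocCohLib

variable {A : Type u} [CommRing A] [IsNoetherianRing A] (a : Ideal A) (c : A)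

theorem subsingleton_G_injective (E : Type u) [AddCommGroup E] [Module A E] [Module.Injective A E] (n : ℕ)
    (V : (Spec (CommRingCat.of A)).Opens) : Subsingleton (G (A := A) E (n + 1) V) := by
  haveI : TopCat.Sheaf.IsFlasque (shA (A := A) E) :=
    CohFound.isFlasque_mk _ fun _ _ h s => rho_surjective_of_injective (E := E) h s
  exact CohFound.subsingleton_hc_of_isFlasque _ n V

variable {M : Type u} [AddCommGroup M] [Module A M]

/-- If `c` kills `H^1_a(M)`, then `c • y` is a global element for every section `y` on the punctured spectrum. -/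
theorem exists_eta_of_kill (h : ∀ x : LocCoh.H a 1 M, c • x = 0) (y : G (A := A) M 0 (LocCoh.puncturedOpen A a)) :
    ∃ m : M, gmap (c • (LinearMap.id : M →ₗ[A] M)) 0 _ y = eta M _ m := by
  obtain ⟨e⟩ := nonempty_coker_toS_equiv a M
  have h1 : (LinearMap.range (toS M (LocCoh.puncturedOpen A a))).mkQ (c • g0 M _ y) = 0 := by
    apply e.injective
    rw [map_smul, map_smul, map_zero]
    exact h _
  rw [Submodule.mkQ_apply, Submodule.Quotient.mk_eq_zero, LinearMap.mem_range] at h1
  obtain ⟨m, hm⟩ := h1
  exact ⟨m, (g0 M _).injective (by rw [g0_gmap, g0_eta, secMap_smul_id, hm])⟩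

/-- If `c` kills `H^{j+2}_a(M)`, then it kills `H^{j+1}(U, M~)`. -/
theorem gmap_smul_eq_zero : ∀ (j : ℕ) (M : Type u) [AddCommGroup M] [Module A M],
    (∀ x : LocCoh.H a (j + 2) M, c • x = 0) → ∀ x : G (A := A) M (j + 1) (LocCoh.puncturedOpen A a),
      gmap (c • (LinearMap.id : M →ₗ[A] M)) (j + 1) _ x = 0 := by
  intro j
  induction j with
  | zero =>
    intro M _ _ h x
    obtain ⟨E, _, _, f, hE, hf, hac⟩ := exists_injective_extension (R := A) M
    let g := (LinearMap.range f).mkQ
    have hg : Function.Surjective g := Submodule.mkQ_surjective _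
    have hfg : Function.Exact f g := f.exact_map_mkQ_range
    let V := LocCoh.puncturedOpen A a
    haveI := subsingleton_G_injective E 0 V
    obtain ⟨y, rfl⟩ := exists_of_gmap_f 0 V hf hg hfg x (Subsingleton.elim _ _)
    have hC : ∀ z : LocCoh.H a 1 (E ⧸ LinearMap.range f), c • z = 0 := fun z =>
      (δEquiv a hf hg hfg 1 (hac a 0) (hac a 1)).injective (by rw [map_smul, map_zero]; exact h _)
    obtain ⟨m, hm⟩ := exists_eta_of_kill a c hC y
    obtain ⟨e, rfl⟩ := hg m
    rw [gδ_natural 0 V hf hg hfg hf hg hfg (c • LinearMap.id) (c • LinearMap.id) (c • LinearMap.id)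
      (by ext; simp) (by ext; simp), hm, ← gmap_eta, gδ_gmap]
  | succ j ih =>
    intro M _ _ h x
    obtain ⟨E, _, _, f, hE, hf, hac⟩ := exists_injective_extension (R := A) M
    let g := (LinearMap.range f).mkQ
    have hg : Function.Surjective g := Submodule.mkQ_surjective _
    have hfg : Function.Exact f g := f.exact_map_mkQ_range
    let V := LocCoh.puncturedOpen A a
    haveI := subsingleton_G_injective E (j + 1) V
    obtain ⟨y, rfl⟩ := exists_of_gmap_f (j + 1) V hf hg hfg x (Subsingleton.elim _ _)
    have hC : ∀ z : LocCoh.H a (j + 2) (E ⧸ LinearMap.range f), c • z = 0 := fun z =>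
      (δEquiv a hf hg hfg (j + 2) (hac a (j + 1)) (hac a (j + 2))).injective (by rw [map_smul, map_zero]; exact h _)
    rw [gδ_natural (j + 1) V hf hg hfg hf hg hfg (c • LinearMap.id) (c • LinearMap.id) (c • LinearMap.id)
      (by ext; simp) (by ext; simp), ih _ hC y, map_zero]

end Groth.Agent.FormalCohH7
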