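import Groth.Agent.Lib.FormalCohH7.Kill
import Groth.Agent.Lib.FormalCohH7.Torsion

/-!
# Formal cohomology on the punctured spectrum along a principal ideal
-/

set_option autoImplicit false
set_option backward.isDefEq.respectTransparency false

universe u

open CategoryTheory Limits AlgebraicGeometry TopologicalSpace Opposite

noncomputable section

namespace Groth.Agent.FormalCohH7

open Groth.Agent.M1 Groth.Agent.CohFound Groth.Agent.LocCohSheafLib

variable {A : Type u} [CommRing A] [IsNoetherianRing A] (a : Ideal A) {f : A}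
  {M : Type u} [AddCommGroup M] [Module A M] {c : ℕ}

theorem gmap_smul_comm (d : A) {N : Type u} [AddCommGroup N] [Module A N] (φ : M →ₗ[A] N) (i : ℕ)
    (V : (Spec (CommRingCat.of A)).Opens) (x : G (A := A) M i V) :
    gmap φ i V (gmap (d • LinearMap.id) i V x) = gmap (d • LinearMap.id) i V (gmap φ i V x) := by
  rw [← gmap_comp, ← gmap_comp]
  refine congrArg (fun η => mp η i V x) (congrArg shMap ?_)
  ext y
  simp

theorem gmap_pow_add (m n : ℕ) (i : ℕ) (V : (Spec (CommRingCat.of A)).Opens) (x : G (A := A) M i V) :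
    gmap (f ^ (m + n) • (LinearMap.id : M →ₗ[A] M)) i V x =
      gmap (f ^ m • LinearMap.id) i V (gmap (f ^ n • LinearMap.id) i V x) := by
  rw [← gmap_comp]
  congr 3
  ext y
  simp [pow_add, mul_smul]

/-- A class modulo torsion comes from `M` after multiplication by `f ^ c`. -/
theorem exists_lift_modTors (i : ℕ) (V : (Spec (CommRingCat.of A)).Opens) (z : G (A := A) (modTors f M c) i V) :
    ∃ w, gmap (tors f M c).mkQ i V w = gmap (f ^ c • LinearMap.id) i V z := by
  let ι : tors f M c →ₗ[A] M := (tors f M c).subtype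
  have hι : Function.Injective ι := Submodule.injective_subtype _
  have hq : Function.Surjective (tors f M c).mkQ := Submodule.mkQ_surjective _
  have hex : Function.Exact ι (tors f M c).mkQ := LinearMap.exact_subtype_mkQ _
  refine exists_of_gδ i V hι hq hex _ ?_
  rw [← gδ_natural i V hι hq hex hι hq hex (f ^ c • LinearMap.id) (f ^ c • LinearMap.id) (f ^ c • LinearMap.id)
    (by ext; simp [ι]) (by ext; simp)]
  have h0 : (f ^ c • LinearMap.id : tors f M c →ₗ[A] tors f M c) = 0 := by
    ext x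
    exact x.2
  rw [h0, gmap_zero]

/-- Killing passes to `M` modulo torsion. -/
theorem kill_modTors (j N : ℕ) (h : ∀ x : LocCoh.H a (j + 2) M, f ^ N • x = 0) :
    ∀ z : G (A := A) (modTors f M c) (j + 1) (LocCoh.puncturedOpen A a),
      gmap (f ^ (N + c) • LinearMap.id) (j + 1) _ z = 0 := by
  intro z
  obtain ⟨w, hw⟩ := exists_lift_modTors (j + 1) _ z
  rw [gmap_pow_add, ← hw, ← gmap_smul_comm, gmap_smul_eq_zero a (f ^ N) j M h w, map_zero]

/-- In degree zero, multiples by high powers of `f` are global elements. -/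
theorem exists_eta_jMap (N : ℕ) (h : ∀ x : LocCoh.H a 1 M, f ^ N • x = 0) (k : ℕ)
    (z : G (A := A) (modTors f M c) 0 (LocCoh.puncturedOpen A a)) :
    ∃ m : M, gmap (jMap f M c (k + (N + c))) 0 _ z = eta M _ (f ^ k • m) := by
  obtain ⟨w, hw⟩ := exists_lift_modTors 0 _ z
  obtain ⟨m, hm⟩ := exists_eta_of_kill a (f ^ N) h w
  refine ⟨f ^ (c + 1) • m, ?_⟩
  rw [jMap_add, gmap_comp, gmap_pow_add, ← hw, ← gmap_smul_comm, hm, gmap_eta, gmap_eta]
  congr 1
  show jMap f M c k (Submodule.Quotient.mk m) = _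
  rw [jMap_mk, smul_smul, ← pow_add]
  congr 2
  omega

variable (hc : IsTorsBound f M c) (i : ℕ) {V : (Spec (CommRingCat.of A)).Opens}

include hc in
/-- Compatible classes lift one by one. -/
theorem exists_lift_family {N : ℕ}
    (hN : ∀ z : G (A := A) (modTors f M c) (i + 1) V, gmap (f ^ N • LinearMap.id) (i + 1) V z = 0)
    (y : ∀ n, G (A := A) (Formal2.quotPow A (Ideal.span {f}) M n) i V)
    (hy : ∀ n, gmap (Formal2.quotPowTrans A (Ideal.span {f}) M n) i V (y (n + 1)) = y n) :
    ∃ x : ℕ → G (A := A) M i V, ∀ k, gmap (prj f M (c + k)) i V (x k) = y (c + k) := by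
  have hs : ∀ k, Function.Surjective (prj f M (c + k)) := fun k => Submodule.mkQ_surjective _
  have hi : ∀ k, Function.Injective (jMap f M c k) := jMap_injective hc
  let d : ℕ → G (A := A) (modTors f M c) (i + 1) V := fun k =>
    gδ i V (hi k) (hs k) (exact_jMap_prj f M c k) (y (c + k))
  have hd : ∀ k, gmap (f • LinearMap.id) (i + 1) V (d (k + 1)) = d k := by
    intro k
    refine (gδ_natural i V (hi (k + 1)) (hs (k + 1)) (exact_jMap_prj f M c (k + 1)) (hi k) (hs k)
      (exact_jMap_prj f M c k) (f • LinearMap.id) LinearMap.id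
      (Formal2.quotPowTrans A (Ideal.span {f}) M (c + k)) ?_ ?_ (y (c + (k + 1)))).trans ?_
    · rw [LinearMap.id_comp, jMap_add, pow_one]
    · exact LinearMap.ext fun _ => rfl
    · exact congrArg _ (hy (c + k))
  have hdn : ∀ n k, gmap (f ^ n • LinearMap.id) (i + 1) V (d (k + n)) = d k := by
    intro n
    induction n with
    | zero => intro k; rw [pow_zero, one_smul, gmap_id]; rfl
    | succ n ih =>
      intro k
      rw [gmap_pow_add, pow_one]
      exact (congrArg _ (hd (k + n))).trans (ih k)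
  have hd0 : ∀ k, ∃ x, gmap (prj f M (c + k)) i V x = y (c + k) := fun k =>
    exists_of_gδ i V (hi k) (hs k) (exact_jMap_prj f M c k) _ ((hdn N k).symm.trans (hN _))
  exact ⟨fun k => (hd0 k).choose, fun k => (hd0 k).choose_spec⟩

omit [IsNoetherianRing A] in
/-- The projection of a compatible family to lower levels. -/
theorem prj_eq_of_le (y : ∀ n, G (A := A) (Formal2.quotPow A (Ideal.span {f}) M n) i V)
    (hy : ∀ n, gmap (Formal2.quotPowTrans A (Ideal.span {f}) M n) i V (y (n + 1)) = y n)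
    {x : G (A := A) M i V} {n₀ : ℕ} (h : gmap (prj f M n₀) i V x = y n₀) :
    ∀ {n : ℕ}, n ≤ n₀ → gmap (prj f M n) i V x = y n := by
  intro n hn
  induction n₀, hn using Nat.le_induction with
  | base => exact h
  | succ m _ ih =>
    apply ih
    rw [← hy m, ← h, ← gmap_comp, prj_trans]

include hc in
theorem exists_jMap_of_prj_eq_zero (k : ℕ) {x : G (A := A) M i V} (hx : gmap (prj f M (c + k)) i V x = 0) :
    ∃ z, gmap (jMap f M c k) i V z = x :=
  exists_of_gmap_g i V (jMap_injective hc k) (Submodule.mkQ_surjective _) (exact_jMap_prj f M c k) x hx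

/-- Bijectivity of the comparison map, on `G`. -/
def GBijective (f : A) (M : Type u) [AddCommGroup M] [Module A M] (i : ℕ)
    (V : (Spec (CommRingCat.of A)).Opens) : Prop :=
  (∀ x : G (A := A) M i V, (∀ n, gmap (prj f M n) i V x = 0) → x = 0) ∧
  ∀ y : ∀ n, G (A := A) (Formal2.quotPow A (Ideal.span {f}) M n) i V,
    (∀ n, gmap (Formal2.quotPowTrans A (Ideal.span {f}) M n) i V (y (n + 1)) = y n) →
      ∃ x : G (A := A) M i V, ∀ n, gmap (prj f M n) i V x = y n

theorem formalCohBijective_of_G (h : GBijective f M i V) :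
    Formal2.FormalCohBijective A (Ideal.span {f}) M i V := by
  obtain ⟨h1, h2⟩ := h
  refine ⟨fun x x' hx => (hvG M i V).injective (sub_eq_zero.1 (h1 _ fun n => ?_)), fun y hy => ?_⟩
  · rw [map_sub, ← hvG_natural, ← hvG_natural, hx n, sub_self]
  · obtain ⟨x, hx⟩ := h2 (fun n => hvG _ i V (y n)) fun n => by rw [← hvG_natural, hy]
    refine ⟨(hvG M i V).symm x, fun n => (hvG _ i V).injective ?_⟩
    rw [hvG_natural, AddEquiv.apply_symm_apply]
    exact hx n

include hc in
theorem gBijective_succ (i N₁ N₂ : ℕ) (h₁ : ∀ x : LocCoh.H a (i + 2) M, f ^ N₁ • x = 0)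
    (h₂ : ∀ x : LocCoh.H a (i + 3) M, f ^ N₂ • x = 0) :
    GBijective f M (i + 1) (LocCoh.puncturedOpen A a) := by
  have hz : ∀ k, ∀ z : G (A := A) (modTors f M c) (i + 1) (LocCoh.puncturedOpen A a),
      gmap (jMap f M c (k + (N₁ + c))) (i + 1) _ z = 0 := fun k z => by
    rw [jMap_add, gmap_comp, kill_modTors a i N₁ h₁ z, map_zero]
  refine ⟨fun x hx => ?_, fun y hy => ?_⟩
  · obtain ⟨z, rfl⟩ := exists_jMap_of_prj_eq_zero hc (i + 1) (0 + (N₁ + c)) (hx _)
    exact hz 0 z
  · obtain ⟨x, hx⟩ := exists_lift_family hc (i + 1) (kill_modTors a (i + 1) N₂ h₂) y hy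
    have hconst : ∀ k, x (k + (N₁ + c)) = x (0 + (N₁ + c)) := by
      intro k
      induction k with
      | zero => rfl
      | succ k ih =>
        rw [← ih, ← sub_eq_zero]
        obtain ⟨z, hz'⟩ := exists_jMap_of_prj_eq_zero hc (i + 1) (k + (N₁ + c))
          (x := x (k + 1 + (N₁ + c)) - x (k + (N₁ + c))) (by
            rw [map_sub, hx, prj_eq_of_le (i + 1) y hy (hx (k + 1 + (N₁ + c))) (by omega), sub_self])
        rw [← hz', hz]
    refine ⟨x (0 + (N₁ + c)), fun n => ?_⟩
    rw [← hconst n]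
    exact prj_eq_of_le (i + 1) y hy (hx _) (by omega)

include hc in
theorem gBijective_zero [IsAdicComplete (Ideal.span {f}) A] [Module.Finite A M] (N₁ N₂ : ℕ)
    (h₁ : ∀ x : LocCoh.H a 1 M, f ^ N₁ • x = 0) (h₂ : ∀ x : LocCoh.H a 2 M, f ^ N₂ • x = 0) :
    GBijective f M 0 (LocCoh.puncturedOpen A a) := by
  refine ⟨fun x hx => ?_, fun y hy => ?_⟩
  · have hm : ∀ k, ∃ m : M, x = eta M _ (f ^ k • m) := fun k => by
      obtain ⟨z, rfl⟩ := exists_jMap_of_prj_eq_zero hc 0 (k + (N₁ + c)) (hx _)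
      exact exists_eta_jMap a N₁ h₁ k z
    obtain ⟨m₀, hm₀⟩ := hm 0
    rw [pow_zero, one_smul] at hm₀
    have hmem := mem_of_forall_sub f M (LinearMap.ker (toS M (LocCoh.puncturedOpen A a))) m₀ fun k => by
      obtain ⟨m, hm'⟩ := hm k
      refine ⟨m, LinearMap.mem_ker.2 ?_⟩
      rw [map_sub, ← g0_eta, ← g0_eta, ← hm₀, ← hm', sub_self]
    rw [hm₀]
    apply (g0 M _).injective
    rw [g0_eta, map_zero]
    exact LinearMap.mem_ker.1 hmem
  · obtain ⟨x, hx⟩ := exists_lift_family hc 0 (kill_modTors a 0 N₂ h₂) y hy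
    have hdiff : ∀ k, ∃ m : M, x (k + 1 + (N₁ + c)) - x (k + (N₁ + c)) = eta M _ (f ^ k • m) := by
      intro k
      obtain ⟨z, hz⟩ := exists_jMap_of_prj_eq_zero hc 0 (k + (N₁ + c))
        (x := x (k + 1 + (N₁ + c)) - x (k + (N₁ + c))) (by
          rw [map_sub, hx, prj_eq_of_le 0 y hy (hx (k + 1 + (N₁ + c))) (by omega), sub_self])
      rw [← hz]
      exact exists_eta_jMap a N₁ h₁ k z
    choose m hm using hdiff
    obtain ⟨L, hL⟩ := exists_limit f M m
    have hsum : ∀ k, x (k + (N₁ + c)) = x (0 + (N₁ + c)) + eta M _ (∑ l ∈ Finset.range k, f ^ l • m l) := by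
      intro k
      induction k with
      | zero => simp
      | succ k ih => rw [Finset.sum_range_succ, map_add, ← hm k, ih]; abel
    refine ⟨x (0 + (N₁ + c)) + eta M _ L, fun n => ?_⟩
    obtain ⟨r, hr⟩ := hL (n + 1)
    have hLk : L = (∑ l ∈ Finset.range (n + 1), f ^ l • m l) + f ^ (n + 1) • r := by rw [hr]; abel
    have h0 : prj f M n (f ^ (n + 1) • r) = 0 := (prj_eq_zero_iff f M n _).2 ⟨r, rfl⟩
    rw [hLk, map_add (eta M _), ← add_assoc, ← hsum, map_add, gmap_eta, h0, map_zero, add_zero]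
    exact prj_eq_of_le 0 y hy (hx _) (by omega)

end Groth.Agent.FormalCohH7
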