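import Groth.Agent.Lib.FormalCohH7.Kill

/-!
# Modules killed near the punctured spectrum
-/

set_option autoImplicit false
set_option backward.isDefEq.respectTransparency false

universe u

open CategoryTheory Limits AlgebraicGeometry TopologicalSpace Opposite

noncomputable section

namespace Groth.Agent.FormalCohH7

open Groth.Agent.M1 Groth.Agent.CohFound Groth.Agent.LocCohSheafLib Groth.Agent.LocCohLib Groth.Agent.InjHullLib

variable {A : Type u} [CommRing A]

theorem mem_punctured_iff (b : Ideal A) (x : Spec (CommRingCat.of A)) :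
    x ∈ LocCoh.puncturedOpen A b ↔ ¬ b ≤ x.asIdeal := by
  show x ∈ (PrimeSpectrum.zeroLocus (R := A) (b : Set A))ᶜ ↔ _
  rw [Set.mem_compl_iff, PrimeSpectrum.mem_zeroLocus, SetLike.coe_subset_coe]

theorem punctured_mono {b c : Ideal A} (h : b ≤ c) : LocCoh.puncturedOpen A b ≤ LocCoh.puncturedOpen A c :=
  fun x hx => (mem_punctured_iff c x).2 fun hc => (mem_punctured_iff b x).1 hx (h.trans hc)

theorem exists_eq_punctured (V : (Spec (CommRingCat.of A)).Opens) :
    ∃ b : Ideal A, V = LocCoh.puncturedOpen A b := by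
  obtain ⟨b, hb⟩ := (PrimeSpectrum.isClosed_iff_zeroLocus_ideal (R := A) _).1 V.isOpen.isClosed_compl
  exact ⟨b, SetLike.coe_injective (by rw [← compl_compl (V : Set (Spec (CommRingCat.of A)))]; exact congrArg compl hb)⟩

variable {M N : Type u} [AddCommGroup M] [Module A M] [AddCommGroup N] [Module A N]

theorem secMap_zero (W : (Spec (CommRingCat.of A)).Opens) (s : Sec M W) :
    secMap (0 : M →ₗ[A] N) W s = 0 := by
  have h := g0_gmap W (0 : M →ₗ[A] N) ((g0 M W).symm s)
  rw [gmap_zero, map_zero, AddEquiv.apply_symm_apply] at h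
  exact h.symm

variable [IsNoetherianRing A]

/-- At a point of the punctured spectrum, sections are global elements up to a factor. -/
theorem exists_smul_eq_toS (a : Ideal A) {p : Ideal A} [p.IsPrime] (hp : ¬ a ≤ p)
    (s : Sec M (LocCoh.puncturedOpen A a)) : ∃ r ∉ p, ∃ m : M, r • s = toS M (LocCoh.puncturedOpen A a) m := by
  obtain ⟨r₀, h₀, h₀p⟩ := Set.not_subset.1 hp
  obtain ⟨n, hn⟩ := exists_pow_smul_eq_toS a s
  obtain ⟨m, hm⟩ := hn _ (Ideal.pow_mem_pow h₀ n)
  exact ⟨r₀ ^ n, fun h => h₀p (Ideal.IsPrime.mem_of_pow_mem ‹_› n h), m, hm.symm⟩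

/-- At a point of the punctured spectrum, `M → Γ(U, M~)` is injective up to a factor. -/
theorem exists_smul_eq_zero_of_toS (a : Ideal A) {p : Ideal A} [p.IsPrime] (hp : ¬ a ≤ p)
    {m : M} (hm : toS M (LocCoh.puncturedOpen A a) m = 0) : ∃ r ∉ p, r • m = 0 := by
  obtain ⟨r₀, h₀, h₀p⟩ := Set.not_subset.1 hp
  obtain ⟨n, hn⟩ := mem_powTors_iff.1 ((toS_eq_zero_iff a m).1 hm)
  exact ⟨r₀ ^ n, fun h => h₀p (Ideal.IsPrime.mem_of_pow_mem ‹_› n h), hn _ (Ideal.pow_mem_pow h₀ n)⟩

/-- A module killed by `b` has no cohomology outside `V(b)`. -/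
theorem subsingleton_G_of_killed (b : Ideal A) (hb : ∀ r ∈ b, ∀ x : M, r • x = 0) (i : ℕ) :
    Subsingleton (G (A := A) M i (LocCoh.puncturedOpen A b)) := by
  obtain _ | j := i
  · refine (g0 M _).toEquiv.subsingleton_congr.2 (subsingleton_of_forall_eq 0 fun s => ?_)
    obtain ⟨n, hn⟩ := exists_pow_smul_eq_toS b s
    refine eq_zero_of_pow_smul b s (n + 1) fun r hr => ?_
    rw [pow_succ'] at hr
    refine Submodule.mul_induction_on hr (fun u hu v hv => ?_) fun u v hu hv => by rw [add_smul, hu, hv, add_zero]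
    obtain ⟨m, hm⟩ := hn v hv
    rw [mul_smul, ← hm, ← map_smul, hb u hu, map_zero]
  · have h : Subsingleton (LocCoh.H b (j + 2) M) :=
      subsingleton_of_isPowerTorsion (I := b) (j + 1) M fun x => ⟨1, fun r hr => hb r (by rwa [pow_one] at hr) x⟩
    refine subsingleton_of_forall_eq 0 fun x => ?_
    have := gmap_smul_eq_zero b 1 j M (fun y => h.elim _ _) x
    rwa [one_smul, gmap_id] at this

theorem gmap_bijective_of_subsingleton {P : Type u} [AddCommGroup P] [Module A P] {f : M →ₗ[A] N}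
    {g : N →ₗ[A] P} (hf : Function.Injective f) (hg : Function.Surjective g) (hfg : Function.Exact f g)
    (V : (Spec (CommRingCat.of A)).Opens) :
    (Subsingleton (G (A := A) M 0 V) → Subsingleton (G (A := A) M 1 V) → Function.Bijective (gmap g 0 V)) ∧
      (Subsingleton (G (A := A) P 0 V) → Function.Bijective (gmap f 0 V)) := by
  refine ⟨fun h0 h1 => ⟨(injective_iff_map_eq_zero _).2 fun x hx => ?_, fun y => ?_⟩, fun h => ⟨?_, fun y => ?_⟩⟩
  · obtain ⟨z, rfl⟩ := exists_of_gmap_g 0 V hf hg hfg x hx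
    rw [h0.elim z 0, map_zero]
  · exact exists_of_gδ 0 V hf hg hfg y (h1.elim _ _)
  · exact mp_f_injective (shSC_shortExact hf hg hfg) V
  · exact exists_of_gmap_g 0 V hf hg hfg y (h.elim _ _)

/-- A map with killed kernel and cokernel is bijective on sections. -/
theorem bijective_gmap_of_killed (b : Ideal A) (φ : M →ₗ[A] N)
    (hK : ∀ r ∈ b, ∀ x : LinearMap.ker φ, r • x = 0) (hC : ∀ r ∈ b, ∀ x : N ⧸ LinearMap.range φ, r • x = 0) :
    Function.Bijective (gmap φ 0 (LocCoh.puncturedOpen A b)) := by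
  have h1 := (gmap_bijective_of_subsingleton (f := (LinearMap.ker φ).subtype) (g := φ.rangeRestrict)
    (Submodule.injective_subtype _) φ.surjective_rangeRestrict
    (LinearMap.exact_iff.2 (by rw [LinearMap.ker_rangeRestrict, Submodule.range_subtype]))
    (LocCoh.puncturedOpen A b)).1 (subsingleton_G_of_killed b hK 0) (subsingleton_G_of_killed b hK 1)
  have h2 := (gmap_bijective_of_subsingleton (f := (LinearMap.range φ).subtype) (g := (LinearMap.range φ).mkQ)
    (Submodule.injective_subtype _) (Submodule.mkQ_surjective _) (LinearMap.exact_subtype_mkQ _)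
    (LocCoh.puncturedOpen A b)).2 (subsingleton_G_of_killed b hC 0)
  have h : ⇑(gmap φ 0 (LocCoh.puncturedOpen A b)) =
      gmap (LinearMap.range φ).subtype 0 _ ∘ gmap φ.rangeRestrict 0 _ := funext fun x => by
    rw [Function.comp_apply, ← gmap_comp,
      show (LinearMap.range φ).subtype ∘ₗ φ.rangeRestrict = φ from LinearMap.ext fun _ => rfl]
  rw [h]
  exact h2.comp h1

end Groth.Agent.FormalCohH7
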