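import Groth.Agent.Lib.LocCoh.PunctSec27
import Groth.Agent.Lib.CohFound.ModAb
import Groth.Agent.Lib.CohFound.Bridge
import Groth.Prelude.Def_Formal2

/-!
# The cohomology `Formal2.HV` of `M~` over an open of `Spec A`: sections, long exact sequence in `M`
-/

set_option autoImplicit false
-- RT

universe u

open CategoryTheory Limits AlgebraicGeometry TopologicalSpace Opposite

noncomputable section

namespace Groth.Agent.FormalCohH7

open Groth.Agent.M1 Groth.Agent.CohFound Groth.Agent.LocCohSheafLib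

variable {A : Type u} [CommRing A]

/-- The abelian sheaf `M~`. -/
abbrev shA (M : Type u) [AddCommGroup M] [Module A M] : CohTop.Ab (Spec (CommRingCat.of A)).toTopCat :=
  (abF (Spec (CommRingCat.of A))).obj (Formal2.tmod A M)

/-- The map of abelian sheaves induced by a linear map. -/
abbrev shMap {M N : Type u} [AddCommGroup M] [Module A M] [AddCommGroup N] [Module A N] (φ : M →ₗ[A] N) :
    shA (A := A) M ⟶ shA (A := A) N :=
  (abF (Spec (CommRingCat.of A))).map (Formal2.tmodMap A φ)

/-- `H^i(V, M~)` as an `Ext` group. -/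
abbrev G (M : Type u) [AddCommGroup M] [Module A M] (i : ℕ) (V : (Spec (CommRingCat.of A)).Opens) : Type u :=
  Hc (shA (A := A) M) i V

/-- Functoriality of `G`. -/
abbrev gmap {M N : Type u} [AddCommGroup M] [Module A M] [AddCommGroup N] [Module A N] (φ : M →ₗ[A] N)
    (i : ℕ) (V : (Spec (CommRingCat.of A)).Opens) : G (A := A) M i V →+ G (A := A) N i V :=
  mp (shMap φ) i V

/-- `HV` is `G`. -/
def hvG (M : Type u) [AddCommGroup M] [Module A M] (i : ℕ) (V : (Spec (CommRingCat.of A)).Opens) :
    Formal2.HV A M i V ≃+ G (A := A) M i V :=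
  huExt _ i V

theorem hvG_natural {M N : Type u} [AddCommGroup M] [Module A M] [AddCommGroup N] [Module A N]
    (φ : M →ₗ[A] N) (i : ℕ) (V : (Spec (CommRingCat.of A)).Opens) (x : Formal2.HV A M i V) :
    hvG N i V (Formal2.HVmap A φ i V x) = gmap φ i V (hvG M i V x) :=
  huExt_HUmap _ i V x

variable {M N P : Type u} [AddCommGroup M] [Module A M] [AddCommGroup N] [Module A N]
  [AddCommGroup P] [Module A P] (i : ℕ) (V : (Spec (CommRingCat.of A)).Opens)

theorem shMap_comp (φ : M →ₗ[A] N) (ψ : N →ₗ[A] P) : shMap (ψ ∘ₗ φ) = shMap φ ≫ shMap ψ := by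
  rw [← Functor.map_comp, ← tilde.map_comp, ← ModuleCat.ofHom_comp]

theorem shMap_id : shMap (LinearMap.id : M →ₗ[A] M) = 𝟙 _ := by
  rw [← CategoryTheory.Functor.map_id]
  exact congrArg (abF _).map (tilde.map_id (R := CommRingCat.of A) (M := ModuleCat.of A M))

theorem gmap_comp (φ : M →ₗ[A] N) (ψ : N →ₗ[A] P) (x : G (A := A) M i V) :
    gmap (ψ ∘ₗ φ) i V x = gmap ψ i V (gmap φ i V x) :=
  (congrArg (fun η => mp η i V x) (shMap_comp φ ψ)).trans (mp_comp _ _ i V x)

theorem gmap_id (x : G (A := A) M i V) : gmap (LinearMap.id : M →ₗ[A] M) i V x = x :=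
  (congrArg (fun η => mp η i V x) shMap_id).trans (mp_id _ i V x)

theorem gmap_zero (x : G (A := A) M i V) : gmap (0 : M →ₗ[A] N) i V x = 0 := by
  have h : shMap (0 : M →ₗ[A] N) = 0 := by
    have h0 : Formal2.tmodMap A (0 : M →ₗ[A] N) = 0 := tilde.map_zero
    show (abF _).map _ = 0
    rw [h0, Functor.map_zero]
  exact (congrArg (fun η => mp η i V x) h).trans (mp_zero _ _ i V x)

/-- The underlying abelian sheaves of a short complex of `O_X`-modules. -/
abbrev abSC {X : Scheme.{u}} (S : ShortComplex X.Modules) : ShortComplex (CohTop.Ab (sp X)) :=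
  S.map (abF X)

/-- The short complex of sheaves of a short complex of modules. -/
abbrev shSC' {R : CommRingCat.{u}} (S : ShortComplex (ModuleCat.{u} R)) :
    ShortComplex (CohTop.Ab (sp (Spec (CommRingCat.of R)))) :=
  abSC (S.map (tilde.functor R))

theorem shSC'_shortExact {R : CommRingCat.{u}} {S : ShortComplex (ModuleCat.{u} R)} (hS : S.ShortExact) :
    (shSC' S).ShortExact :=
  shortExact_abF (hS.map_of_exact (tilde.functor R))

/-- The short complex of sheaves of a short exact sequence of modules. -/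
abbrev shSC (f : M →ₗ[A] N) (g : N →ₗ[A] P) (hfg : Function.Exact f g) :
    ShortComplex (CohTop.Ab (Spec (CommRingCat.of A)).toTopCat) :=
  shSC' (R := CommRingCat.of A) (ShortComplex.moduleCatMk f g hfg.linearMap_comp_eq_zero)

theorem shSC_shortExact {f : M →ₗ[A] N} {g : N →ₗ[A] P} (hf : Function.Injective f)
    (hg : Function.Surjective g) (hfg : Function.Exact f g) : (shSC f g hfg).ShortExact :=
  shSC'_shortExact (R := CommRingCat.of A) (LocCohLib.shortExact_mk f g hf hg hfg)

variable {f : M →ₗ[A] N} {g : N →ₗ[A] P} (hf : Function.Injective f) (hg : Function.Surjective g)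
  (hfg : Function.Exact f g)

/-- The connecting map. -/
def gδ : G (A := A) P i V →+ G (A := A) M (i + 1) V :=
  delta (shSC_shortExact hf hg hfg) i V

include hf hg hfg in
theorem exists_of_gmap_g (x : G (A := A) N i V) (hx : gmap g i V x = 0) : ∃ y, gmap f i V y = x :=
  exact₂ (shSC_shortExact hf hg hfg) i V x hx

theorem exists_of_gδ (x : G (A := A) P i V) (hx : gδ i V hf hg hfg x = 0) : ∃ y, gmap g i V y = x :=
  exact₃ (shSC_shortExact hf hg hfg) i V x hx

theorem exists_of_gmap_f (x : G (A := A) M (i + 1) V) (hx : gmap f (i + 1) V x = 0) :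
    ∃ y, gδ i V hf hg hfg y = x :=
  exact₁ (shSC_shortExact hf hg hfg) i V x hx

theorem gδ_gmap (x : G (A := A) N i V) : gδ i V hf hg hfg (gmap g i V x) = 0 :=
  delta_mp (shSC_shortExact hf hg hfg) i V x

theorem gmap_gδ (x : G (A := A) P i V) : gmap f (i + 1) V (gδ i V hf hg hfg x) = 0 :=
  mp_delta (shSC_shortExact hf hg hfg) i V x

variable {M' N' P' : Type u} [AddCommGroup M'] [Module A M'] [AddCommGroup N'] [Module A N']
  [AddCommGroup P'] [Module A P'] {f' : M' →ₗ[A] N'} {g' : N' →ₗ[A] P'} (hf' : Function.Injective f')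
  (hg' : Function.Surjective g') (hfg' : Function.Exact f' g')

theorem gδ_natural (a : M →ₗ[A] M') (b : N →ₗ[A] N') (c : P →ₗ[A] P') (h1 : f' ∘ₗ a = b ∘ₗ f)
    (h2 : g' ∘ₗ b = c ∘ₗ g) (x : G (A := A) P i V) :
    gmap a (i + 1) V (gδ i V hf hg hfg x) = gδ i V hf' hg' hfg' (gmap c i V x) :=
  delta_natural (shSC_shortExact hf hg hfg) (shSC_shortExact hf' hg' hfg')
    { τ₁ := shMap a
      τ₂ := shMap b
      τ₃ := shMap c
      comm₁₂ := ((shMap_comp a f').symm.trans (congrArg shMap h1)).trans (shMap_comp f b)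
      comm₂₃ := ((shMap_comp b g').symm.trans (congrArg shMap h2)).trans (shMap_comp g c) } i V x

/-- Degree zero: sections. -/
def g0 (M : Type u) [AddCommGroup M] [Module A M] (V : (Spec (CommRingCat.of A)).Opens) :
    G (A := A) M 0 V ≃+ Sec M V :=
  hc0 (shA (A := A) M) V

theorem g0_gmap (φ : M →ₗ[A] N) (x : G (A := A) M 0 V) : g0 N V (gmap φ 0 V x) = secMap φ V (g0 M V x) :=
  hc0_mp (shMap φ) V x

/-- An element of `M` as a class in degree zero. -/
def eta (M : Type u) [AddCommGroup M] [Module A M] (V : (Spec (CommRingCat.of A)).Opens) :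
    M →+ G (A := A) M 0 V :=
  (g0 M V).symm.toAddMonoidHom.comp (toS M V).toAddMonoidHom

theorem g0_eta (m : M) : g0 M V (eta M V m) = toS M V m :=
  (g0 M V).apply_symm_apply _

theorem gmap_eta (φ : M →ₗ[A] N) (m : M) : gmap φ 0 V (eta M V m) = eta N V (φ m) :=
  (g0 N V).injective (by rw [g0_gmap, g0_eta, g0_eta, secMap_toS])

end Groth.Agent.FormalCohH7
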